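import Mathlib

/-!
An upper bound for the automorphisms of a graph given by neighbour masks, from an ordering of the
vertices: each factor counts the vertices with the same adjacency to the earlier ones.
-/

set_option autoImplicit false

namespace CfsgLib.Recog.McLRank

variable {n : ℕ}

/-- The vertices that may be images of `x` when the vertices of `P` are fixed, counted. -/
def classSize (n : ℕ) (rows : List ℕ) (P x : ℕ) : ℕ :=
  bif P.testBit x then 1 else
    let r := Nat.land (rows.getD x 0) P
    ((List.range n).zip rows).countP fun e => !P.testBit e.1 && Nat.beq (Nat.land e.2 P) r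

/-- The product of the factors along an ordering. -/
def chainBound (n : ℕ) (rows : List ℕ) : List ℕ → ℕ → ℕ
  | [], _ => 1
  | x :: L, P => classSize n rows P x * chainBound n rows L (Nat.lor P (Nat.shiftLeft 1 x))

theorem orbit_le {rows : List ℕ} (hlen : rows.length = n) (hlt : ∀ i < n, rows.getD i 0 < 2 ^ n)
    {K : Subgroup (Equiv.Perm (Fin n))}
    (hA : ∀ σ ∈ K, ∀ i j : Fin n, (rows.getD (σ i : Fin n) 0).testBit (σ j : Fin n) =
      (rows.getD i 0).testBit j)
    {P : ℕ} (hP : ∀ σ ∈ K, ∀ i : Fin n, P.testBit i = true → σ i = i) (x : Fin n) :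
    (MulAction.orbit K x).ncard ≤ classSize n rows P x := by
  rw [classSize]
  cases hx : P.testBit x with
  | true =>
    rw [cond_true]
    have : MulAction.orbit K x ⊆ {x} := by
      rintro _ ⟨σ, rfl⟩
      exact hP σ σ.2 x hx
    simpa using Set.ncard_le_ncard this (Set.finite_singleton x)
  | false =>
    simp only [cond_false]
    set q : ℕ × ℕ → Bool := fun e =>
      !P.testBit e.1 && Nat.beq (Nat.land e.2 P) (Nat.land (rows.getD x 0) P) with hq
    set L := ((List.range n).zip rows).filter q
    have hsub : ∀ y ∈ MulAction.orbit K x, ((y : ℕ), rows.getD (y : ℕ) 0) ∈ L := by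
      rintro _ ⟨σ, rfl⟩
      show ((((σ : Equiv.Perm (Fin n)) x : Fin n) : ℕ),
        rows.getD ((σ : Equiv.Perm (Fin n)) x : Fin n) 0) ∈ L
      set y := (σ : Equiv.Perm (Fin n)) x with hy
      refine List.mem_filter.2 ⟨?_, ?_⟩
      · rw [List.mem_iff_getElem]
        refine ⟨y, by simp [hlen], ?_⟩
        rw [List.getElem_zip, List.getElem_range, List.getD_eq_getElem]
      · simp only [hq, Bool.and_eq_true, Bool.not_eq_true']
        refine ⟨Bool.eq_false_iff.2 fun hyP => ?_, ?_⟩
        · have h1 := hP _ σ.2 y hyP
          rw [(σ : Equiv.Perm (Fin n)).injective (h1.trans hy), hx] at hyP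
          exact Bool.false_ne_true hyP
        · rw [Nat.beq_eq]
          refine Nat.eq_of_testBit_eq fun b => ?_
          show (rows.getD (y : ℕ) 0 &&& P).testBit b = (rows.getD (x : ℕ) 0 &&& P).testBit b
          rw [Nat.testBit_and, Nat.testBit_and]
          cases hb : P.testBit b with
          | false => simp
          | true =>
            simp only [Bool.and_true]
            by_cases hbn : b < n
            · have h1 := hA _ σ.2 x ⟨b, hbn⟩
              rwa [hP _ σ.2 ⟨b, hbn⟩ hb] at h1
            · have h2 : ∀ i < n, (rows.getD i 0).testBit b = false := fun i hi =>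
                Nat.testBit_lt_two_pow (lt_of_lt_of_le (hlt i hi)
                  (Nat.pow_le_pow_right (by norm_num) (Nat.le_of_not_lt hbn)))
              rw [h2 _ y.2, h2 _ x.2]
    rw [List.countP_eq_length_filter]
    refine le_trans ?_ (List.toFinset_card_le L)
    rw [← Set.ncard_coe_finset L.toFinset]
    refine Set.ncard_le_ncard_of_injOn (fun y => ((y : ℕ), rows.getD (y : ℕ) 0))
      (fun y hy => by simpa using hsub y hy) ?_ (Set.toFinite _)
    intro y _ y' _ e
    exact Fin.ext (Prod.ext_iff.1 e).1

theorem card_le_chainBound {rows : List ℕ} (hlen : rows.length = n)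
    (hlt : ∀ i < n, rows.getD i 0 < 2 ^ n) :
    ∀ {L : List ℕ} {P : ℕ} {K : Subgroup (Equiv.Perm (Fin n))},
      (∀ σ ∈ K, ∀ i j : Fin n, (rows.getD (σ i : Fin n) 0).testBit (σ j : Fin n) =
        (rows.getD i 0).testBit j) →
      (∀ σ ∈ K, ∀ i : Fin n, P.testBit i = true → σ i = i) →
      (∀ i : Fin n, P.testBit i = true ∨ (i : ℕ) ∈ L) → (∀ x ∈ L, x < n) →
      Nat.card K ≤ chainBound n rows L P
  | [], P, K, _, hP, hcov, _ => by
    have : K = ⊥ := by
      rw [eq_bot_iff]
      intro σ hσ
      refine Subgroup.mem_bot.2 (Equiv.ext fun i => ?_)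
      rcases hcov i with h | h
      · exact hP σ hσ i h
      · exact absurd h List.not_mem_nil
    rw [this, Subgroup.card_bot, chainBound]
  | x :: L, P, K, hA, hP, hcov, hb => by
    let x' : Fin n := ⟨x, hb x List.mem_cons_self⟩
    let K' : Subgroup (Equiv.Perm (Fin n)) := K ⊓ MulAction.stabilizer (Equiv.Perm (Fin n)) x'
    have hbit : ∀ i, (Nat.lor P (Nat.shiftLeft 1 x)).testBit i = true ↔ P.testBit i = true ∨ x = i := by
      intro i
      show (P ||| 1 <<< x).testBit i = true ↔ _
      rw [Nat.testBit_or, Nat.one_shiftLeft, Nat.testBit_two_pow, Bool.or_eq_true, decide_eq_true_iff]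
    have ih := card_le_chainBound hlen hlt (L := L) (P := Nat.lor P (Nat.shiftLeft 1 x)) (K := K')
      (fun σ hσ => hA σ hσ.1)
      (fun σ hσ i hi => by
        rcases (hbit i).1 hi with h | h
        · exact hP σ hσ.1 i h
        · have : x' = i := Fin.ext h
          rw [← this]; exact hσ.2)
      (fun i => by
        rcases hcov i with h | h
        · exact Or.inl ((hbit i).2 (Or.inl h))
        · rcases List.mem_cons.1 h with h | h
          · exact Or.inl ((hbit i).2 (Or.inr h.symm))
          · exact Or.inr h)
      (fun y hy => hb y (List.mem_cons_of_mem _ hy))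
    have e : Nat.card (MulAction.stabilizer K x') = Nat.card K' :=
      Nat.card_congr
        { toFun := fun g => ⟨g.1.1, g.1.2, g.2⟩
          invFun := fun g => ⟨⟨g.1, g.2.1⟩, g.2.2⟩
          left_inv := fun _ => rfl
          right_inv := fun _ => rfl }
    rw [← Subgroup.card_mul_index (MulAction.stabilizer K x'), MulAction.index_stabilizer, e, chainBound,
      mul_comm]
    exact Nat.mul_le_mul (orbit_le hlen hlt hA hP x') ih

end CfsgLib.Recog.McLRank
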