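import Cfsg.Agent.Lib.Recog.McLRank.DegreeAction
import Cfsg.Agent.Lib.Recog.McLRank.DataHalves

/-!
Halves of the quadrangle meeting each line twice that are fixed by an element of order seven.
-/

set_option autoImplicit false
set_option maxRecDepth 100000
set_option Elab.async false

namespace CfsgLib.Recog.McLRank

open CfsgLib.KnownA.PermCert CfsgLib.KnownA.U4ThreeSchur

/-- The number of points of a line in a mask. -/
def cntL (m : ℕ) (l : List ℕ) : ℕ := l.countP fun i => m.testBit i

/-- The union of some masks. -/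
def unionM (O : List ℕ) : ℕ := O.foldr Nat.lor 0

/-- No set between the two bounds meets every line twice. -/
def pruned (acc all : ℕ) : Bool :=
  linesX.any fun l => Nat.blt 2 (cntL acc l) || Nat.blt (cntL all l) 2

/-- The search over unions of the orbits. -/
def srch : List ℕ → ℕ → Bool
  | [], acc => pruned acc acc || reps.any (Nat.beq acc)
  | o :: O, acc => pruned acc (acc ||| unionM (o :: O)) || (srch O (acc ||| o) && srch O acc)

theorem srch_ok : srch orbSeven 0 = true := by decide +kernel

theorem testBit_unionM {i : ℕ} : ∀ {O : List ℕ}, (unionM O).testBit i = true ↔ ∃ o ∈ O, o.testBit i = true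
  | [] => by simp [unionM]
  | o :: O => by
    show (o ||| unionM O).testBit i = true ↔ _
    rw [Nat.testBit_or, Bool.or_eq_true, testBit_unionM (O := O)]
    simp

theorem orbSeven_check : (∀ i : Fin 112, (unionM orbSeven).testBit i = true) ∧
    orbSeven.all (fun o => (List.range 112).all fun i => !o.testBit i ||
      Nat.beq (reach 112 [codeSeven] 6 (2 ^ i)) o) = true ∧
    orbSeven.all (fun o => Nat.blt o (2 ^ 112)) = true ∧
    reps.all (fun o => Nat.blt o (2 ^ 112)) = true ∧
    valid 112 codeSeven = true ∧ eqW 112 [codeSeven] (wordCodes gensG wordSeven) = true ∧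
    wordSeven.all (fun i => Nat.blt i gensG.length) = true ∧
    eqW 112 [codeSeven, codeSeven, codeSeven, codeSeven, codeSeven, codeSeven, codeSeven] [] = true ∧
    Nat.beq (pimg codeSeven 0) 0 = false := by
  decide +kernel

theorem seven_facts : permOf 112 codeSeven ∈ GP ∧ orderOf (permOf 112 codeSeven) = 7 := by
  obtain ⟨-, -, -, -, hv, hw, hb, h7, hne⟩ := orbSeven_check
  have hw' : ∀ d ∈ wordCodes gensG wordSeven, d ∈ gensG := by
    intro d hd
    obtain ⟨i, hi, rfl⟩ := List.mem_map.1 hd
    rw [List.all_eq_true] at hb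
    rw [List.getD_eq_getElem _ _ (Nat.blt_eq.mp (hb i hi))]
    exact List.getElem_mem _
  haveI : Fact (Nat.Prime 7) := ⟨by norm_num⟩
  refine ⟨?_, orderOf_eq_prime ?_ ?_⟩
  · rw [permOf_eq_prodW hv (fun d hd => (valid_gensG d (hw' d hd)).1) hw]
    exact prodW_mem _ fun d hd => mem_genGroup (hw' d hd)
  · have := (eqW_iff (n := 112) (L := [codeSeven, codeSeven, codeSeven, codeSeven, codeSeven, codeSeven, codeSeven])
      (L' := []) (by simp [hv]) (by simp)).1 h7
    simpa [prodW, pow_succ, mul_assoc] using this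
  · intro h
    have := permOf_val hv p0
    rw [h] at this
    rw [← show (p0 : ℕ) = 0 from rfl, ← this] at hne
    simp at hne

theorem srch_sound {m : ℕ} (hm : ∀ l ∈ linesX, cntL m l = 2) :
    ∀ {O : List ℕ} {acc : ℕ},
      (∀ o ∈ O, (∀ i, o.testBit i = true → m.testBit i = true) ∨
        (∀ i, o.testBit i = true → m.testBit i = false)) →
      (∀ i, acc.testBit i = true → m.testBit i = true) →
      (∀ i, m.testBit i = true → (acc ||| unionM O).testBit i = true) →
      srch O acc = true → m ∈ reps
  | [], acc, _, h1, h2, h => by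
    have e : acc = m := by
      refine Nat.eq_of_testBit_eq fun i => Bool.eq_iff_iff.2 ⟨h1 i, fun hi => ?_⟩
      have := h2 i hi
      rw [show unionM [] = 0 from rfl, Nat.or_zero] at this
      exact this
    subst e
    simp only [srch, pruned, Bool.or_eq_true, List.any_eq_true, Nat.blt_eq] at h
    rcases h with ⟨l, hl, h⟩ | ⟨r, hr, h⟩
    · have := hm l hl; omega
    · rw [Nat.eq_of_beq_eq_true h]; exact hr
  | o :: O, acc, hO, h1, h2, h => by
    rw [srch, Bool.or_eq_true] at h
    rcases h with h | h
    · simp only [pruned, List.any_eq_true, Bool.or_eq_true, Nat.blt_eq] at h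
      obtain ⟨l, hl, h⟩ := h
      have := hm l hl
      have ha : cntL acc l ≤ cntL m l := List.countP_mono_left fun i _ hi => h1 i hi
      have hb : cntL m l ≤ cntL (acc ||| unionM (o :: O)) l :=
        List.countP_mono_left fun i _ hi => h2 i hi
      omega
    · rw [Bool.and_eq_true] at h
      have e : ∀ i, (acc ||| unionM (o :: O)).testBit i = true →
          acc.testBit i = true ∨ o.testBit i = true ∨ (unionM O).testBit i = true := by
        intro i hi
        rw [Nat.testBit_or, Bool.or_eq_true, testBit_unionM] at hi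
        rcases hi with hi | ⟨o', ho', hi⟩
        · exact Or.inl hi
        · rcases List.mem_cons.1 ho' with rfl | ho'
          · exact Or.inr (Or.inl hi)
          · exact Or.inr (Or.inr (testBit_unionM.2 ⟨o', ho', hi⟩))
      have hO' := fun o' ho' => hO o' (List.mem_cons_of_mem _ ho')
      rcases hO o List.mem_cons_self with ho | ho
      · refine srch_sound hm hO' (fun i hi => ?_) (fun i hi => ?_) h.1
        · rw [Nat.testBit_or, Bool.or_eq_true] at hi
          exact hi.elim (h1 i) (ho i)
        · rw [Nat.testBit_or, Nat.testBit_or]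
          rcases e i (h2 i hi) with e' | e' | e' <;> simp [e']
      · refine srch_sound hm hO' h1 (fun i hi => ?_) h.2
        rw [Nat.testBit_or]
        rcases e i (h2 i hi) with e' | e' | e'
        · simp [e']
        · rw [ho i e'] at hi; exact absurd hi Bool.false_ne_true
        · simp [e']

theorem linesX_eq : (linesX.zip lineMasks).all (fun e =>
    (List.range 112).all fun i => (e.1.any (Nat.beq i)) == e.2.testBit i) = true ∧
    linesX.length = lineMasks.length ∧ (∀ l ∈ linesX, l.Nodup ∧ ∀ i ∈ l, i < 112) := by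
  decide +kernel

/-- A set of points meeting every line twice. -/
def Twice (S : Finset (Fin 112)) : Prop := ∀ L ∈ Lines, (L ∩ S).card = 2

theorem twice_image {S : Finset (Fin 112)} (hS : Twice S) {σ : Equiv.Perm (Fin 112)} (hσ : σ ∈ GP) :
    Twice (S.image σ) := by
  intro L hL
  have h := hS _ (lines_GP (inv_mem hσ) hL)
  have e : L ∩ S.image σ = ((L.image (σ⁻¹ : Equiv.Perm (Fin 112))) ∩ S).image σ := by
    ext x
    simp only [Finset.mem_inter, Finset.mem_image, Equiv.Perm.inv_def]
    constructor
    · rintro ⟨hx, y, hy, rfl⟩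
      exact ⟨y, ⟨⟨σ y, hx, σ.symm_apply_apply y⟩, hy⟩, rfl⟩
    · rintro ⟨y, ⟨⟨z, hz, rfl⟩, hy⟩, rfl⟩
      exact ⟨by rwa [σ.apply_symm_apply], _, hy, rfl⟩
  rw [e, Finset.card_image_of_injective _ σ.injective, h]

theorem cntL_of_twice {m : ℕ} (h : Twice (mS 112 m)) : ∀ l ∈ linesX, cntL m l = 2 := by
  obtain ⟨hz, hlen, hnd⟩ := linesX_eq
  intro l hl
  obtain ⟨k, hk, rfl⟩ := List.getElem_of_mem hl
  have hk' : k < lineMasks.length := hlen ▸ hk
  rw [List.all_eq_true] at hz
  have hb := hz (linesX[k], lineMasks[k]) (by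
    rw [List.mem_iff_getElem]
    exact ⟨k, by rw [List.length_zip]; omega, List.getElem_zip⟩)
  simp only [List.all_eq_true, List.mem_range, beq_iff_eq] at hb
  rw [← h (mS 112 lineMasks[k]) ⟨_, List.getElem_mem _, rfl⟩]
  obtain ⟨hd, hlt⟩ := hnd _ (List.getElem_mem hk)
  rw [cntL, List.countP_eq_length_filter, ← List.toFinset_card_of_nodup (hd.filter _)]
  refine Finset.card_bij (fun i hi => ⟨i, hlt i (List.mem_filter.1 (List.mem_toFinset.1 hi)).1⟩) ?_ ?_ ?_
  · intro i hi
    have hi' := List.mem_filter.1 (List.mem_toFinset.1 hi)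
    refine Finset.mem_inter.2 ⟨mem_mS.2 ?_, mem_mS.2 hi'.2⟩
    rw [← hb i (hlt i hi'.1), List.any_eq_true]
    exact ⟨i, hi'.1, Nat.beq_refl i⟩
  · intro i _ j _ e; exact congrArg Fin.val e
  · intro x hx
    rw [Finset.mem_inter, mem_mS, mem_mS] at hx
    refine ⟨x, List.mem_toFinset.2 (List.mem_filter.2 ⟨?_, hx.2⟩), rfl⟩
    have := hb x x.2
    rw [hx.1, List.any_eq_true] at this
    obtain ⟨i, hi, e⟩ := this
    rw [Nat.eq_of_beq_eq_true e]; exact hi

/-- A set fixed by the standard element and meeting every line twice is one of four. -/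
theorem fixed_seven {S : Finset (Fin 112)} (hS : Twice S)
    (hfix : S.image (permOf 112 codeSeven) = S) : ∃ m ∈ reps, mS 112 m = S := by
  obtain ⟨hall, horb, hlt, -, hv, -⟩ := orbSeven_check
  obtain ⟨m0, hm0⟩ := exists_mask S
  set m := m0 % 2 ^ 112 with hm
  have em : mS 112 m = S := by
    rw [← hm0]; ext i; rw [mem_mS, mem_mS, hm, Nat.testBit_mod_two_pow]; simp [i.2]
  refine ⟨m, srch_sound (cntL_of_twice (em.symm ▸ hS)) (acc := 0) ?_ (fun i hi => by simp at hi) ?_ srch_ok, em⟩
  · intro o ho
    by_cases hex : ∃ i, o.testBit i = true ∧ m.testBit i = true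
    · left
      obtain ⟨i, hio, him⟩ := hex
      intro j hj
      rw [List.all_eq_true] at hlt horb
      have hb : ∀ k, o.testBit k = true → k < 112 := fun k hk => by
        by_contra hge
        rw [Nat.testBit_lt_two_pow (lt_of_lt_of_le (Nat.blt_eq.mp (hlt o ho))
          (Nat.pow_le_pow_right (by norm_num) (Nat.le_of_not_lt hge)))] at hk
        exact Bool.false_ne_true hk
      have hr := horb o ho
      rw [List.all_eq_true] at hr
      have hr' := hr i (List.mem_range.2 (hb i hio))
      rw [hio, Bool.not_true, Bool.false_or] at hr'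
      have hj' : (reach 112 [codeSeven] 6 (2 ^ i)).testBit (⟨j, hb j hj⟩ : Fin 112) = true := by
        rw [Nat.eq_of_beq_eq_true hr']; exact hj
      let K : Subgroup (Equiv.Perm (Fin 112)) :=
        { carrier := {σ | ∀ x, σ x ∈ S ↔ x ∈ S}
          mul_mem' := fun {a b} ha hb x => (ha (b x)).trans (hb x)
          one_mem' := fun _ => Iff.rfl
          inv_mem' := fun {a} ha x => by
            rw [Equiv.Perm.inv_def]; exact (ha _).symm.trans (by rw [a.apply_symm_apply]) }
      have hKc : permOf 112 codeSeven ∈ K := fun x => by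
        conv_lhs => rw [← hfix]
        exact (Finset.mem_image).trans ⟨fun ⟨y, hy, e⟩ => (permOf 112 codeSeven).injective e ▸ hy,
          fun hx => ⟨x, hx, rfl⟩⟩
      obtain ⟨σ, hσ, i', hi', e⟩ := mem_reach K (fun c hc => by
        rw [List.mem_singleton] at hc; subst hc; exact ⟨hv, hKc⟩) hj'
      rw [Nat.testBit_two_pow, decide_eq_true_iff] at hi'
      have h1 : i' ∈ S := by rw [← em, mem_mS, ← hi']; exact him
      have h2 := (hσ i').2 h1
      rw [e, ← em, mem_mS] at h2
      exact h2
    · right
      intro i hi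
      exact Bool.eq_false_iff.2 fun h => hex ⟨i, hi, h⟩
  · intro i hi
    rw [Nat.zero_or]
    have : i < 112 := by
      by_contra hge
      rw [hm, Nat.testBit_mod_two_pow] at hi
      simp [hge] at hi
    exact hall ⟨i, this⟩

theorem half_closed : ∀ k : Fin 4, (orbHalves.getD k []).any (Nat.beq (reps.getD k 0)) = true ∧
    ((orbHalves.getD k []).all fun m => gensG.all fun c =>
      (orbHalves.getD k []).any (Nat.beq (imgM c m 112))) = true := by
  decide +kernel

theorem reps_length : reps.length = 4 := by decide +kernel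

/-- Every translate stays in the listed orbit. -/
theorem half_GP {k : Fin 4} {m : ℕ} (hm : m ∈ orbHalves.getD k []) {σ : Equiv.Perm (Fin 112)}
    (hσ : σ ∈ GP) : ∃ m' ∈ orbHalves.getD k [], (mS 112 m).image σ = mS 112 m' := by
  have h' : σ ∈ Submonoid.closure {σ : Equiv.Perm (Fin 112) | ∃ c ∈ gensG, σ = permOf 112 c} := by
    rw [← Subgroup.closure_toSubmonoid_of_finite]; exact hσ
  clear hσ
  induction h' using Submonoid.closure_induction generalizing m with
  | mem x hx =>
    obtain ⟨c, hc, rfl⟩ := hx
    have := (half_closed k).2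
    simp only [List.all_eq_true, List.any_eq_true] at this
    obtain ⟨m', hm', e⟩ := this m hm c hc
    exact ⟨m', hm', by rw [image_mS (valid_gensG c hc).1, Nat.eq_of_beq_eq_true e]⟩
  | one => exact ⟨m, hm, by simp⟩
  | mul x y _ _ hx hy =>
    obtain ⟨m1, hm1, e1⟩ := hy hm
    obtain ⟨m2, hm2, e2⟩ := hx hm1
    exact ⟨m2, hm2, by rw [Equiv.Perm.coe_mul, ← Finset.image_image, e1, e2]⟩

/-- A set meeting every line twice and fixed by an element of order seven lies in one of the orbits. -/
theorem twice_orbit {S : Finset (Fin 112)} (hS : Twice S) {g : Equiv.Perm (Fin 112)} (hg : g ∈ GP)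
    (h7 : orderOf g = 7) (hfix : S.image g = S) :
    ∃ k : Fin 4, ∀ ρ ∈ GP, ∃ m ∈ orbHalves.getD k [], S.image ρ = mS 112 m := by
  obtain ⟨hs, hs7⟩ := seven_facts
  haveI : Fact (Nat.Prime 7) := ⟨by norm_num⟩
  let a : GP := ⟨g, hg⟩
  let b : GP := ⟨_, hs⟩
  have hfac : (Nat.card GP).factorization 7 = 1 := by
    rw [card_GP, show (3265920 : ℕ) = 7 ^ 1 * 466560 by norm_num,
      Nat.factorization_mul (by norm_num) (by norm_num), Finsupp.add_apply,
      Nat.Prime.factorization_pow (by norm_num), Finsupp.single_eq_same,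
      Nat.factorization_eq_zero_of_not_dvd (by norm_num)]
  have oa : Nat.card (Subgroup.zpowers a) = 7 := by
    rw [Nat.card_zpowers, ← Subgroup.orderOf_coe]; exact h7
  have ob : Nat.card (Subgroup.zpowers b) = 7 := by
    rw [Nat.card_zpowers, ← Subgroup.orderOf_coe]; exact hs7
  let Pa : Sylow 7 GP := Sylow.ofCard (Subgroup.zpowers a) (by rw [oa, hfac, pow_one])
  let Pb : Sylow 7 GP := Sylow.ofCard (Subgroup.zpowers b) (by rw [ob, hfac, pow_one])
  obtain ⟨t, ht⟩ := MulAction.exists_smul_eq GP Pa Pb
  set τ : Equiv.Perm (Fin 112) := (t : Equiv.Perm (Fin 112))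
  let K : Subgroup GP :=
    { carrier := {σ | (S.image τ).image (σ : Equiv.Perm (Fin 112)) = S.image τ}
      mul_mem' := fun {x y} hx hy => by
        show (S.image τ).image ((x * y : GP) : Equiv.Perm (Fin 112)) = S.image τ
        rw [Subgroup.coe_mul, Equiv.Perm.coe_mul, ← Finset.image_image, hy, hx]
      one_mem' := by show (S.image τ).image _ = _; simp
      inv_mem' := fun {x} hx => by
        show (S.image τ).image ((x⁻¹ : GP) : Equiv.Perm (Fin 112)) = S.image τ
        conv_lhs => rw [← hx]
        rw [Finset.image_image, ← Equiv.Perm.coe_mul, Subgroup.coe_inv, inv_mul_cancel]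
        simp }
  have hK : Subgroup.zpowers b ≤ K := by
    show (Pb : Subgroup GP) ≤ K
    rw [← ht, Sylow.coe_subgroup_smul]
    rintro x ⟨y, hy, rfl⟩
    have hy' : y ∈ Subgroup.zpowers a := hy
    show (S.image τ).image _ = _
    obtain ⟨n, rfl⟩ := Subgroup.mem_zpowers_iff.1 hy'
    have hn : S.image ((g : Equiv.Perm (Fin 112)) ^ n) = S := by
      let K0 : Subgroup (Equiv.Perm (Fin 112)) :=
        { carrier := {σ | S.image σ = S}
          mul_mem' := fun {x y} hx hy => by
            show S.image (x * y : Equiv.Perm (Fin 112)) = S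
            rw [Equiv.Perm.coe_mul, ← Finset.image_image, hy, hx]
          one_mem' := by show S.image _ = _; simp
          inv_mem' := fun {x} hx => by
            show S.image (x⁻¹ : Equiv.Perm (Fin 112)) = S
            conv_lhs => rw [← hx]
            rw [Finset.image_image, ← Equiv.Perm.coe_mul, inv_mul_cancel]
            simp }
      exact zpow_mem (show g ∈ K0 from hfix) n
    conv_rhs => rw [← hn]
    simp only [Finset.image_image]
    congr 1
    funext x
    simp [MulAut.smul_def, τ, a, Equiv.Perm.mul_apply, Equiv.Perm.inv_def]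
  obtain ⟨m, hm, em⟩ := fixed_seven (twice_image hS t.2) (hK (Subgroup.mem_zpowers b))
  obtain ⟨k, hk, hke⟩ := List.getElem_of_mem hm
  have hk4 : k < 4 := reps_length ▸ hk
  refine ⟨⟨k, hk4⟩, fun ρ hρ => ?_⟩
  obtain ⟨r, hr, hr'⟩ := List.any_eq_true.1 (half_closed ⟨k, hk4⟩).1
  have hr'' : r = m := by
    rw [← Nat.eq_of_beq_eq_true hr', ← hke]
    exact List.getD_eq_getElem _ _ hk
  obtain ⟨m', hm', e⟩ := half_GP hr (mul_mem hρ (inv_mem t.2))
  refine ⟨m', hm', ?_⟩
  rw [← e, hr'', em, Finset.image_image, ← Equiv.Perm.coe_mul, inv_mul_cancel_right]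

end CfsgLib.Recog.McLRank
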