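import Cfsg.Agent.Lib.Recog.McLRank.Flag

/-!
A transitive action of `PSU₄(3)` on 112 points is the action on the points of the quadrangle.
-/

set_option autoImplicit false
set_option maxRecDepth 100000

namespace CfsgLib.Recog.McLRank

open CfsgLib.KnownA.PermCert CfsgLib.KnownA.U4ThreeSchur
open scoped Pointwise

theorem five_facts : permOf 112 codeFive ∈ GP ∧ permOf 112 codeFive ^ 5 = 1 ∧
    permOf 112 codeFive ≠ 1 := by
  obtain ⟨hv, hw, hb, h5, -, hne⟩ := five_check
  have hw' : ∀ d ∈ wordCodes gensH wordFive, d ∈ gensH := by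
    intro d hd
    obtain ⟨i, hi, rfl⟩ := List.mem_map.1 hd
    rw [List.all_eq_true] at hb
    rw [List.getD_eq_getElem _ _ (Nat.blt_eq.mp (hb i hi))]
    exact List.getElem_mem _
  refine ⟨?_, ?_, ?_⟩
  · rw [permOf_eq_prodW hv (fun d hd => (valid_gensH d (hw' d hd)).1) hw]
    exact prodW_mem _ fun d hd => genH_le (mem_genGroup (hw' d hd))
  · have := (eqW_iff (n := 112) (L := [codeFive, codeFive, codeFive, codeFive, codeFive]) (L' := [])
      (by simp [hv]) (by simp)).1 h5
    simpa [prodW, pow_succ, mul_assoc] using this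
  · intro h
    have := permOf_val hv px
    rw [h] at this
    rw [← show (px : ℕ) = 1 from rfl, ← this] at hne
    simp at hne

/-- An element of order five of the group fixes no two adjacent points. -/
theorem five_fix {g : Equiv.Perm (Fin 112)} (hg : g ∈ GP) (h5 : g ^ 5 = 1) (h1 : g ≠ 1)
    {i j : Fin 112} (hi : g i = i) (hj : g j = j) : ¬ AdjX i j := by
  obtain ⟨hs, hs5, hs1⟩ := five_facts
  haveI : Fact (Nat.Prime 5) := ⟨by norm_num⟩
  haveI : Finite GP := inferInstance
  have hord : ∀ x : GP, (x : Equiv.Perm (Fin 112)) ^ 5 = 1 → (x : Equiv.Perm (Fin 112)) ≠ 1 →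
      Nat.card (Subgroup.zpowers x) = 5 := by
    intro x hx hx1
    rw [Nat.card_zpowers]
    exact orderOf_eq_prime (Subtype.ext (by simpa using hx)) (fun e => hx1 (by rw [e]; rfl))
  let a : GP := ⟨g, hg⟩
  let b : GP := ⟨_, hs⟩
  have hfac : (Nat.card GP).factorization 5 = 1 := by
    rw [card_GP, show (3265920 : ℕ) = 5 ^ 1 * 653184 by norm_num,
      Nat.factorization_mul (by norm_num) (by norm_num), Finsupp.add_apply,
      Nat.Prime.factorization_pow (by norm_num), Finsupp.single_eq_same,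
      Nat.factorization_eq_zero_of_not_dvd (by norm_num)]
  let Pa : Sylow 5 GP := Sylow.ofCard (Subgroup.zpowers a) (by rw [hord a h5 h1, hfac, pow_one])
  let Pb : Sylow 5 GP := Sylow.ofCard (Subgroup.zpowers b) (by rw [hord b hs5 hs1, hfac, pow_one])
  obtain ⟨t, ht⟩ := MulAction.exists_smul_eq GP Pa Pb
  have hmem : t * a * t⁻¹ ∈ Subgroup.zpowers b := by
    have : t * a * t⁻¹ ∈ (↑(t • Pa) : Subgroup GP) := by
      rw [Sylow.coe_subgroup_smul]
      exact Subgroup.mem_smul_pointwise_iff_exists _ _ _ |>.2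
        ⟨a, Subgroup.mem_zpowers a, by simp [MulAut.smul_def]⟩
    rw [ht] at this
    exact this
  have ha1 : t * a * t⁻¹ ≠ 1 := fun e => h1 (congrArg Subtype.val (conj_eq_one_iff.1 e))
  have hgen : b ∈ Subgroup.zpowers (t * a * t⁻¹) := by
    have : Subgroup.zpowers (t * a * t⁻¹) = Subgroup.zpowers b := by
      refine Subgroup.eq_of_le_of_card_ge ((Subgroup.zpowers_le).2 hmem) ?_
      rw [hord b hs5 hs1, hord _ ?_ (fun e => ha1 (Subtype.ext e))]
      have : (t * a * t⁻¹) ^ 5 = 1 := by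
        rw [conj_pow, show a ^ 5 = 1 from Subtype.ext (by simpa using h5)]; simp
      simpa using congrArg Subtype.val this
    rw [this]; exact Subgroup.mem_zpowers b
  obtain ⟨k, hk⟩ := Subgroup.mem_zpowers_iff.1 hgen
  have fixs : ∀ x : Fin 112, g x = x → permOf 112 codeFive ((t : Equiv.Perm (Fin 112)) x) =
      (t : Equiv.Perm (Fin 112)) x := by
    intro x hx
    have e := congrArg Subtype.val hk
    have h0 : ((t * a * t⁻¹ : GP) : Equiv.Perm (Fin 112)) ((t : Equiv.Perm (Fin 112)) x) =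
        (t : Equiv.Perm (Fin 112)) x := by
      simp only [Subgroup.coe_mul, Subgroup.coe_inv, Equiv.Perm.mul_apply, Equiv.Perm.inv_def,
        Equiv.symm_apply_apply, a, hx]
    conv_lhs => rw [show permOf 112 codeFive = ((b : GP) : Equiv.Perm (Fin 112)) from rfl, ← e]
    rw [Subgroup.coe_zpow]
    exact Equiv.Perm.zpow_apply_eq_self_of_apply_eq_self h0 k
  obtain ⟨hv, -, -, -, hnadj, -⟩ := five_check
  intro hadj
  refine hnadj ((t : Equiv.Perm (Fin 112)) i) ?_ ((t : Equiv.Perm (Fin 112)) j) ?_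
    ((adj_GP t.2 i j).2 hadj)
  · rw [← permOf_val hv]; exact congrArg Fin.val (fixs i hi)
  · rw [← permOf_val hv]; exact congrArg Fin.val (fixs j hj)

/-- A subgroup of order 29160 containing a Sylow subgroup in the flag stabiliser fixes the base point. -/
theorem fix_p0 {K Q : Subgroup (Equiv.Perm (Fin 112))} (hK : K ≤ GP) (hc : Nat.card K = 29160)
    (hQK : Q ≤ K) (hQ : Q ≤ GB) (hQc : Nat.card Q = 729) : ∀ σ ∈ K, σ p0 = p0 := by
  obtain ⟨o1, o2, o3⟩ := GB_orbits
  obtain ⟨n1, n2, n3⟩ := flag_counts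
  set O := orbSet K p0 with hO
  have h0 : p0 ∈ O := ⟨1, one_mem _, rfl⟩
  have hclosed : ∀ y ∈ O, orbSet Q y ⊆ O := by
    rintro _ ⟨σ, hσ, rfl⟩ _ ⟨τ, hτ, rfl⟩
    exact ⟨τ * σ, mul_mem (hQK hτ) hσ, rfl⟩
  have hd : O.ncard ∣ 40 := by
    have h := card_orbSet K p0
    rw [hc] at h
    have hle : Q ≤ K ⊓ MulAction.stabilizer (Equiv.Perm (Fin 112)) p0 :=
      le_inf hQK fun σ hσ => (hQ hσ).1.2
    obtain ⟨m, hm⟩ := Subgroup.card_dvd_of_le hle
    rw [hQc] at hm
    rw [← hO, hm] at h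
    exact ⟨m, by nlinarith⟩
  have hd40 : O.ncard ≤ 40 := Nat.le_of_dvd (by norm_num) hd
  have orbit_sub : ∀ (r : Fin 112) (k : ℕ), (orbSet GB r).ncard = 3 ^ k →
      ∀ y ∈ O, y ∈ orbSet GB r → orbSet GB r ⊆ O := by
    intro r k hk y hy hyr
    obtain ⟨σ, hσ, rfl⟩ := hyr
    have e : orbSet GB (σ r) = orbSet GB r := by
      ext z
      exact ⟨fun ⟨τ, hτ, e⟩ => ⟨τ * σ, mul_mem hτ hσ, e⟩,
        fun ⟨τ, hτ, e⟩ => ⟨τ * σ⁻¹, mul_mem hτ (inv_mem hσ), by simp [e]⟩⟩
    rw [← e, ← orb_sylow hQ hQc (k := k) (by rw [e]; exact hk)]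
    exact hclosed _ hy
  have c1 : (orbSet GB px).ncard = 3 ^ 1 := by
    rw [o1, Set.ncard_eq_toFinset_card', Set.toFinset_ofPred]; exact n1
  have c2 : (orbSet GB pmid).ncard = 3 ^ 3 := by
    rw [o2, Set.ncard_eq_toFinset_card', Set.toFinset_ofPred]; exact n2
  have c3 : (orbSet GB pfar).ncard = 3 ^ 4 := by
    rw [o3, Set.ncard_eq_toFinset_card', Set.toFinset_ofPred]; exact n3
  have hfar : ∀ y ∈ O, y = p0 ∨ AdjX p0 y := by
    intro y hy
    by_contra hcon
    rw [not_or] at hcon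
    have := Set.ncard_le_ncard (orbit_sub pfar 4 c3 y hy (by rw [o3]; exact hcon)) (Set.toFinite O)
    omega
  have hline : ∀ y ∈ O, y ∈ lineF := by
    intro y hy
    rcases hfar y hy with rfl | hadj
    · exact mem_mS.2 (by decide +kernel)
    by_contra hcon
    have hsub := orbit_sub pmid 3 c2 y hy (by rw [o2]; exact ⟨hadj, hcon⟩)
    have hp : insert p0 (orbSet GB pmid) ⊆ O := Set.insert_subset h0 hsub
    have h28 : 28 ≤ O.ncard := by
      have := Set.ncard_le_ncard hp (Set.toFinite O)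
      rw [Set.ncard_insert_of_notMem (fun h => by
        rw [o2] at h; revert h; rintro ⟨h, -⟩; exact absurd h (by decide +kernel)), c2] at this
      exact this
    have h40 : O.ncard = 40 := by
      obtain ⟨m, hm⟩ := hd
      rcases m with _ | _ | m
      · omega
      · omega
      · nlinarith
    have hu : O ⊆ insert p0 (orbSet GB pmid) ∪ orbSet GB px := by
      intro z hz
      rcases hfar z hz with rfl | hz'
      · exact Or.inl (Set.mem_insert _ _)
      · by_cases hzl : z ∈ lineF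
        · refine Or.inr ?_
          rw [o1]
          exact ⟨fun e => by subst e; revert hz'; decide +kernel, hzl⟩
        · refine Or.inl (Set.mem_insert_of_mem _ ?_)
          rw [o2]
          exact ⟨hz', hzl⟩
    have := (Set.ncard_le_ncard hu (Set.toFinite _)).trans (Set.ncard_union_le _ _)
    have := Set.ncard_insert_le p0 (orbSet GB pmid)
    omega
  have lineadj : ∀ y : Fin 112, lineZero.testBit y = true → y = p0 ∨ AdjX p0 y := by decide +kernel
  intro σ hσ
  by_contra hne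
  have hy : σ p0 ∈ O := ⟨σ, hσ, rfl⟩
  haveI : Fact (Nat.Prime 5) := ⟨by norm_num⟩
  obtain ⟨x, hx⟩ := exists_prime_orderOf_dvd_card' 5 (show 5 ∣ Nat.card K by rw [hc]; norm_num)
  set τ : Equiv.Perm (Fin 112) := (x : Equiv.Perm (Fin 112))
  have hτ5 : τ ^ 5 = 1 := by
    have := congrArg Subtype.val (pow_orderOf_eq_one x)
    rwa [hx] at this
  have hτ1 : τ ≠ 1 := fun e => by
    have : x = 1 := Subtype.ext e
    rw [this, orderOf_one] at hx
    norm_num at hx
  have h4 : O.ncard ≤ 4 := by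
    refine (Set.ncard_le_ncard (show O ⊆ (lineF : Set (Fin 112)) from hline) (Set.toFinite _)).trans ?_
    rw [Set.ncard_coe_finset]
    decide +kernel
  have hfix : ∀ y ∈ O, τ y = y := by
    intro y hy'
    have hper : Function.minimalPeriod τ y ∣ 5 :=
      Function.IsPeriodicPt.minimalPeriod_dvd (show (⇑τ)^[5] y = y by
        rw [← Equiv.Perm.coe_pow, hτ5]; rfl)
    rcases (Nat.dvd_prime (by norm_num)).1 hper with h1 | h5
    · exact Function.minimalPeriod_eq_one_iff_isFixedPt.1 h1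
    · exfalso
      have hall : ∀ k : ℕ, (⇑τ)^[k] y ∈ O := by
        intro k
        rw [← Equiv.Perm.coe_pow]
        obtain ⟨ρ, hρ, rfl⟩ := hy'
        exact ⟨τ ^ k * ρ, mul_mem (pow_mem x.2 k) hρ, rfl⟩
      have hinj : Function.Injective (fun k : Fin 5 => (⟨(⇑τ)^[k.1] y, hall k⟩ : O)) := by
        intro a b e
        have := Function.iterate_injOn_Iio_minimalPeriod (f := ⇑τ) (x := y)
          (show a.1 ∈ Set.Iio (Function.minimalPeriod τ y) by rw [h5]; exact a.2)
          (show b.1 ∈ Set.Iio (Function.minimalPeriod τ y) by rw [h5]; exact b.2)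
          (congrArg Subtype.val e)
        exact Fin.ext this
      have := Nat.card_le_card_of_injective _ hinj
      rw [Nat.card_coe_set_eq, Nat.card_fin] at this
      omega
  rcases lineadj _ (mem_mS.1 (hline _ hy)) with e | e
  · exact hne e
  · exact five_fix (hK x.2) hτ5 hτ1 (hfix _ h0) (hfix _ hy) e

/-- A subgroup of index 112 is a point stabiliser. -/
theorem exists_fixed {K : Subgroup (Equiv.Perm (Fin 112))} (hK : K ≤ GP) (hc : Nat.card K = 29160) :
    ∃ x : Fin 112, ∀ σ ∈ K, σ x = x := by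
  haveI : Fact (Nat.Prime 3) := ⟨by norm_num⟩
  have f3 : ∀ m : ℕ, m = 3 ^ 6 * (m / 729) → ¬ 3 ∣ m / 729 → m ≠ 0 → m.factorization 3 = 6 := by
    intro m hm hnd h0
    rw [hm, Nat.factorization_mul (by norm_num) (fun e => h0 (by rw [hm, e, mul_zero])), Finsupp.add_apply,
      Nat.Prime.factorization_pow (by norm_num), Finsupp.single_eq_same,
      Nat.factorization_eq_zero_of_not_dvd hnd]
  have hfac : (Nat.card GP).factorization 3 = 6 := by
    rw [card_GP]; exact f3 _ (by norm_num) (by norm_num) (by norm_num)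
  let P : Sylow 3 K := default
  let R : Sylow 3 GB := default
  have hPc : Nat.card ((P : Subgroup K).map K.subtype) = 729 := by
    rw [Subgroup.card_map_of_injective K.subtype_injective, P.card_eq_multiplicity, hc,
      f3 _ (by norm_num) (by norm_num) (by norm_num)]
    norm_num
  have hRc : Nat.card ((R : Subgroup GB).map GB.subtype) = 729 := by
    rw [Subgroup.card_map_of_injective GB.subtype_injective, R.card_eq_multiplicity, card_GB,
      f3 _ (by norm_num) (by norm_num) (by norm_num)]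
    norm_num
  set P₁ := (P : Subgroup K).map K.subtype
  set R₁ := (R : Subgroup GB).map GB.subtype
  have hP₁ : P₁ ≤ K := Subgroup.map_subtype_le _
  have hR₁ : R₁ ≤ GB := Subgroup.map_subtype_le _
  have hGB : GB ≤ GP := fun σ h => h.1.1
  have cardOf : ∀ {H : Subgroup (Equiv.Perm (Fin 112))}, H ≤ GP →
      Nat.card (H.subgroupOf GP) = Nat.card H := fun h => Nat.card_congr (Subgroup.subgroupOfEquivOfLe h).toEquiv
  let SP : Sylow 3 GP := Sylow.ofCard (P₁.subgroupOf GP)
    (by rw [cardOf (hP₁.trans hK), hPc, hfac]; norm_num)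
  let SR : Sylow 3 GP := Sylow.ofCard (R₁.subgroupOf GP)
    (by rw [cardOf (hR₁.trans hGB), hRc, hfac]; norm_num)
  obtain ⟨t, ht⟩ := MulAction.exists_smul_eq GP SP SR
  set τ : Equiv.Perm (Fin 112) := (t : Equiv.Perm (Fin 112))
  have hconj : ∀ σ ∈ P₁, τ * σ * τ⁻¹ ∈ R₁ := by
    intro σ hσ
    have h1 : t * ⟨σ, hK (hP₁ hσ)⟩ * t⁻¹ ∈ (↑(t • SP) : Subgroup GP) := by
      rw [Sylow.coe_subgroup_smul]
      exact Subgroup.mem_smul_pointwise_iff_exists _ _ _ |>.2
        ⟨⟨σ, hK (hP₁ hσ)⟩, hσ, by simp [MulAut.smul_def]⟩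
    rw [ht] at h1
    exact h1
  let f : Equiv.Perm (Fin 112) →* Equiv.Perm (Fin 112) := (MulAut.conj τ).toMonoidHom
  have hf : Function.Injective f := (MulAut.conj τ).injective
  have hfix := fix_p0 (K := K.map f) (Q := P₁.map f)
    (by
      rintro _ ⟨σ, hσ, rfl⟩
      exact mul_mem (mul_mem t.2 (hK hσ)) (inv_mem t.2))
    (by rw [Subgroup.card_map_of_injective hf, hc])
    (Subgroup.map_mono hP₁)
    (by rintro _ ⟨σ, hσ, rfl⟩; exact hR₁ (hconj σ hσ))
    (by rw [Subgroup.card_map_of_injective hf, hPc])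
  refine ⟨τ⁻¹ p0, fun σ hσ => ?_⟩
  have := hfix _ ⟨σ, hσ, rfl⟩
  simp only [f, MulEquiv.coe_toMonoidHom, MulAut.conj_apply, Equiv.Perm.mul_apply] at this
  rw [Equiv.Perm.inv_def] at this ⊢
  exact τ.eq_symm_apply.2 this

/-- A transitive action on 112 points is the action on the points of the quadrangle. -/
theorem exists_equivariant {H : Type*} [Group H] [Finite H] (φ : H ≃* GP) {Y : Type*}
    [MulAction H Y] [MulAction.IsPretransitive H Y] (hY : Nat.card Y = 112) :
    ∃ ψ : Y ≃ Fin 112, ∀ (h : H) (y : Y), ψ (h • y) = (φ h : Equiv.Perm (Fin 112)) (ψ y) := by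
  obtain ⟨hne, hfin⟩ := Nat.card_pos_iff.1 (show 0 < Nat.card Y by omega)
  obtain ⟨y0⟩ := hne
  let f : H →* Equiv.Perm (Fin 112) := GP.subtype.comp φ.toMonoidHom
  have hf : Function.Injective f := GP.subtype_injective.comp φ.injective
  set S := MulAction.stabilizer H y0
  have hS : Nat.card S = 29160 := by
    have h := Subgroup.card_mul_index S
    rw [MulAction.index_stabilizer_of_transitive, hY, Nat.card_congr φ.toEquiv, card_GP] at h
    omega
  obtain ⟨x, hx⟩ := exists_fixed (K := S.map f) (by rintro _ ⟨h, -, rfl⟩; exact (φ h).2)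
    (by rw [Subgroup.card_map_of_injective hf, hS])
  have hx' : ∀ h ∈ S, f h x = x := fun h hh => hx _ ⟨h, hh, rfl⟩
  choose g hg using fun y : Y => MulAction.exists_smul_eq H y0 y
  have hwd : ∀ (h : H) (y : Y), h • y0 = y → f (g y) x = f h x := by
    intro h y e
    have hm : h⁻¹ * g y ∈ S := by
      show (h⁻¹ * g y) • y0 = y0
      rw [mul_smul, hg, ← e, inv_smul_smul]
    have := hx' _ hm
    rw [map_mul, Equiv.Perm.mul_apply, map_inv, Equiv.Perm.inv_def] at this
    exact (f h).symm_apply_eq.1 this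
  have hsurj : Function.Surjective fun y : Y => f (g y) x := by
    intro i
    obtain ⟨σ, hσ, e⟩ := GP_trans i
    obtain ⟨ρ, hρ, e'⟩ := GP_trans x
    refine ⟨φ.symm ⟨σ * ρ⁻¹, mul_mem hσ (inv_mem hρ)⟩ • y0, ?_⟩
    show f (g _) x = i
    rw [hwd _ _ rfl]
    show ((φ (φ.symm ⟨σ * ρ⁻¹, mul_mem hσ (inv_mem hρ)⟩) : GP) : Equiv.Perm (Fin 112)) x = i
    rw [φ.apply_symm_apply, ← e', Subgroup.coe_mk, Equiv.Perm.mul_apply, Equiv.Perm.inv_def,
      Equiv.symm_apply_apply, e]
  have hbij : Function.Bijective fun y : Y => f (g y) x :=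
    (Nat.bijective_iff_surjective_and_card _).2 ⟨hsurj, by rw [hY, Nat.card_fin]⟩
  refine ⟨Equiv.ofBijective _ hbij, fun h y => ?_⟩
  show f (g (h • y)) x = f h (f (g y) x)
  rw [hwd (h * g y) (h • y) (by rw [mul_smul, hg]), map_mul, Equiv.Perm.mul_apply]

end CfsgLib.Recog.McLRank
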