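import Cfsg.Agent.Lib.Recog.McLRank.GQ

/-!
The stabiliser of a flag of the quadrangle, and an element of order five.
-/

set_option autoImplicit false
set_option maxRecDepth 100000
set_option Elab.async false

namespace CfsgLib.Recog.McLRank

open CfsgLib.KnownA.PermCert CfsgLib.KnownA.U4ThreeSchur
open scoped Pointwise

/-- The second point of the flag. -/
abbrev px : Fin 112 := ⟨1, by norm_num⟩

/-- The line of the flag. -/
def lineF : Finset (Fin 112) := mS 112 lineZero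

/-- The orbit of a point under a group as a set. -/
def orbSet (K : Subgroup (Equiv.Perm (Fin 112))) (x : Fin 112) : Set (Fin 112) :=
  {y | ∃ σ ∈ K, σ x = y}

theorem card_orbSet (K : Subgroup (Equiv.Perm (Fin 112))) (x : Fin 112) :
    (orbSet K x).ncard * Nat.card (K ⊓ MulAction.stabilizer (Equiv.Perm (Fin 112)) x :
      Subgroup (Equiv.Perm (Fin 112))) = Nat.card K := by
  have h := MulAction.index_stabilizer (G := K) x
  have e : MulAction.orbit K x = orbSet K x := by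
    ext y
    exact ⟨fun ⟨g, hg⟩ => ⟨g, g.2, hg⟩, fun ⟨g, hg, hgy⟩ => ⟨⟨g, hg⟩, hgy⟩⟩
  rw [e] at h
  have e2 : Nat.card (MulAction.stabilizer K x) =
      Nat.card (K ⊓ MulAction.stabilizer (Equiv.Perm (Fin 112)) x : Subgroup (Equiv.Perm (Fin 112))) :=
    Nat.card_congr
      { toFun := fun g => ⟨g.1.1, g.1.2, g.2⟩
        invFun := fun g => ⟨⟨g.1, g.2.1⟩, g.2.2⟩
        left_inv := fun _ => rfl
        right_inv := fun _ => rfl }
  rw [← h, ← e2, mul_comm, Subgroup.card_mul_index]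

theorem card_GP0 : Nat.card GP0 = 29160 := by
  have h := card_orbSet GP p0
  rw [show orbSet GP p0 = Set.univ from Set.eq_univ_of_forall fun i => GP_trans i, Set.ncard_univ,
    Nat.card_fin, card_GP] at h
  have h' : 112 * Nat.card GP0 = 3265920 := h
  omega

theorem orb_near : orbSet GP0 px = {i | AdjX p0 i} := by
  ext i
  constructor
  · rintro ⟨σ, hσ, rfl⟩
    have h := (adj_GP hσ.1 p0 px).2 (by decide +kernel)
    rwa [show σ p0 = p0 from hσ.2] at h
  · intro hi
    exact suborbit (show px ≠ p0 by decide +kernel)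
      (fun e => by subst e; revert hi; show ¬ _; decide +kernel)
      ⟨fun _ => hi, fun _ => by decide +kernel⟩

theorem card_pair : Nat.card (GP0 ⊓ MulAction.stabilizer (Equiv.Perm (Fin 112)) px :
    Subgroup (Equiv.Perm (Fin 112))) = 972 := by
  have h := card_orbSet GP0 px
  rw [orb_near, card_GP0,
    show ({i : Fin 112 | AdjX p0 i}).ncard = 30 by
      rw [Set.ncard_eq_toFinset_card', Set.toFinset_ofPred]; decide +kernel] at h
  omega

/-- The flag stabiliser. -/
noncomputable abbrev GB : Subgroup (Equiv.Perm (Fin 112)) :=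
  GP0 ⊓ MulAction.stabilizer (Equiv.Perm (Fin 112)) (lineF : Set (Fin 112))

theorem lineF_spec : ∀ i : Fin 112,
    lineZero.testBit i = true ↔ i = p0 ∨ i = px ∨ (AdjX p0 i ∧ AdjX px i) := by decide +kernel

theorem mem_stab_line {σ : Equiv.Perm (Fin 112)} (h : ∀ i ∈ lineF, σ i ∈ lineF) :
    σ ∈ MulAction.stabilizer (Equiv.Perm (Fin 112)) (lineF : Set (Fin 112)) := by
  rw [MulAction.mem_stabilizer_iff]
  refine Set.eq_of_subset_of_ncard_le ?_ ?_ (Set.toFinite _)
  · rintro _ ⟨i, hi, rfl⟩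
    exact h i hi
  · rw [show σ • (lineF : Set (Fin 112)) = σ '' (lineF : Set (Fin 112)) from rfl,
      Set.ncard_image_of_injective _ σ.injective]

theorem pair_le_GB : GP0 ⊓ MulAction.stabilizer (Equiv.Perm (Fin 112)) px ≤ GB := by
  intro σ hσ
  refine ⟨hσ.1, mem_stab_line fun i hi => ?_⟩
  rw [lineF, mem_mS, lineF_spec] at hi ⊢
  have e1 : σ p0 = p0 := hσ.1.2
  have e2 : σ px = px := hσ.2
  rcases hi with rfl | rfl | ⟨h1, h2⟩
  · exact Or.inl e1
  · exact Or.inr (Or.inl e2)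
  · refine Or.inr (Or.inr ⟨?_, ?_⟩)
    · have := (adj_GP hσ.1.1 p0 i).2 h1; rwa [e1] at this
    · have := (adj_GP hσ.1.1 px i).2 h2; rwa [e2] at this

theorem gensH_mem_GP0 : ∀ c ∈ gensH, permOf 112 c ∈ GP0 :=
  fun c hc => genH_le_GP0 (mem_genGroup hc)

theorem flag_codes : (codesFlag.zip wordsFlag).all (fun e => valid 112 e.1 &&
    eqW 112 [e.1] (wordCodes gensH e.2) && Nat.beq (imgM e.1 lineZero 112) lineZero &&
    e.2.all (fun i => Nat.blt i gensH.length)) = true ∧ codesFlag.length = wordsFlag.length := by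
  decide +kernel

theorem codesFlag_mem : ∀ c ∈ codesFlag, valid 112 c = true ∧ permOf 112 c ∈ GB := by
  obtain ⟨h, hl⟩ := flag_codes
  intro c hc
  obtain ⟨k, hk, rfl⟩ := List.getElem_of_mem hc
  have hk' : k < wordsFlag.length := hl ▸ hk
  rw [List.all_eq_true] at h
  have := h (codesFlag[k], wordsFlag[k]) (by
    rw [List.mem_iff_getElem]
    exact ⟨k, by rw [List.length_zip]; omega, List.getElem_zip⟩)
  simp only [Bool.and_eq_true, List.all_eq_true, Nat.blt_eq] at this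
  obtain ⟨⟨⟨hv, he⟩, hi⟩, hb⟩ := this
  have hw : ∀ d ∈ wordCodes gensH wordsFlag[k], d ∈ gensH := by
    intro d hd
    obtain ⟨i, hi', rfl⟩ := List.mem_map.1 hd
    rw [List.getD_eq_getElem _ _ (hb i hi')]
    exact List.getElem_mem _
  refine ⟨hv, ?_, mem_stab_line fun i hi' => ?_⟩
  · show permOf 112 codesFlag[k] ∈ GP0
    rw [permOf_eq_prodW hv (fun d hd => (valid_gensH d (hw d hd)).1) he]
    exact prodW_mem _ fun d hd => gensH_mem_GP0 d (hw d hd)
  · rw [lineF, ← Nat.eq_of_beq_eq_true hi, ← image_mS hv]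
    exact Finset.mem_image_of_mem _ hi'

/-- A representative of the 81 points away from the base point. -/
abbrev pfar : Fin 112 := ⟨4, by norm_num⟩

/-- A representative of the 27 points near the base point off the line. -/
abbrev pmid : Fin 112 := ⟨31, by norm_num⟩

theorem reach_GB {k s : ℕ} (hs : s < 112) {i : Fin 112}
    (h : (reach 112 codesFlag k (2 ^ s)).testBit i = true) : i ∈ orbSet GB ⟨s, hs⟩ := by
  obtain ⟨σ, hσ, j, hj, e⟩ := mem_reach GB codesFlag_mem h
  rw [Nat.testBit_two_pow, decide_eq_true_iff] at hj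
  exact ⟨σ, hσ, by rw [show (⟨s, hs⟩ : Fin 112) = j from Fin.ext hj]; exact e⟩

theorem flag_check : ∀ i : Fin 112,
    (i ≠ p0 ∧ lineZero.testBit i = true → (reach 112 codesFlag 1 (2 ^ 1)).testBit i = true) ∧
    (AdjX p0 i ∧ lineZero.testBit i = false → (reach 112 codesFlag 7 (2 ^ 31)).testBit i = true) ∧
    (i ≠ p0 ∧ ¬ AdjX p0 i → (reach 112 codesFlag 9 (2 ^ 4)).testBit i = true) := by
  decide +kernel

theorem flag_counts : (Finset.univ.filter fun i : Fin 112 => i ≠ p0 ∧ i ∈ lineF).card = 3 ∧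
    (Finset.univ.filter fun i : Fin 112 => AdjX p0 i ∧ i ∉ lineF).card = 27 ∧
    (Finset.univ.filter fun i : Fin 112 => i ≠ p0 ∧ ¬ AdjX p0 i).card = 81 := by decide +kernel

theorem GB_fix_line {σ : Equiv.Perm (Fin 112)} (h : σ ∈ GB) {i : Fin 112} :
    σ i ∈ lineF ↔ i ∈ lineF := by
  have e : σ • (lineF : Set (Fin 112)) = lineF := h.2
  constructor
  · intro hi
    have hi' : σ i ∈ σ • (lineF : Set (Fin 112)) := by rw [e]; exact hi
    obtain ⟨j, hj, hj'⟩ := hi'
    exact σ.injective hj' ▸ hj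
  · intro hi
    have : σ i ∈ σ • (lineF : Set (Fin 112)) := ⟨i, hi, rfl⟩
    rwa [e] at this

theorem GB_orbits : orbSet GB px = {i | i ≠ p0 ∧ i ∈ lineF} ∧
    orbSet GB pmid = {i | AdjX p0 i ∧ i ∉ lineF} ∧ orbSet GB pfar = {i | i ≠ p0 ∧ ¬ AdjX p0 i} := by
  have adj : ∀ σ ∈ GB, ∀ i, AdjX p0 (σ i) ↔ AdjX p0 i := by
    intro σ hσ i
    have := adj_GP hσ.1.1 p0 i
    rwa [show σ p0 = p0 from hσ.1.2] at this
  have ne : ∀ σ ∈ GB, ∀ i, σ i = p0 ↔ i = p0 := fun σ hσ i =>
    ⟨fun h => σ.injective (h.trans (show σ p0 = p0 from hσ.1.2).symm), fun h => h ▸ hσ.1.2⟩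
  refine ⟨Set.Subset.antisymm ?_ ?_, Set.Subset.antisymm ?_ ?_, Set.Subset.antisymm ?_ ?_⟩
  · rintro _ ⟨σ, hσ, rfl⟩
    exact ⟨fun h => absurd ((ne σ hσ _).1 h) (by decide +kernel),
      (GB_fix_line hσ).2 (by rw [lineF, mem_mS]; decide +kernel)⟩
  · rintro i ⟨h1, h2⟩
    exact reach_GB (k := 1) (s := 1) (by norm_num) ((flag_check i).1 ⟨h1, mem_mS.1 h2⟩)
  · rintro _ ⟨σ, hσ, rfl⟩
    exact ⟨(adj σ hσ _).2 (by decide +kernel),
      fun h => absurd (mem_mS.1 ((GB_fix_line hσ).1 h)) (by decide +kernel)⟩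
  · rintro i ⟨h1, h2⟩
    refine reach_GB (k := 7) (s := 31) (by norm_num) ((flag_check i).2.1 ⟨h1, ?_⟩)
    exact Bool.eq_false_iff.2 fun h => h2 (mem_mS.2 h)
  · rintro _ ⟨σ, hσ, rfl⟩
    exact ⟨fun h => absurd ((ne σ hσ _).1 h) (by decide +kernel),
      fun h => absurd ((adj σ hσ _).1 h) (by decide +kernel)⟩
  · rintro i h
    exact reach_GB (k := 9) (s := 4) (by norm_num) ((flag_check i).2.2 h)

theorem card_GB : Nat.card GB = 2916 := by
  have h := card_orbSet GB px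
  rw [GB_orbits.1, show GB ⊓ MulAction.stabilizer (Equiv.Perm (Fin 112)) px =
      GP0 ⊓ MulAction.stabilizer (Equiv.Perm (Fin 112)) px from
    le_antisymm (fun σ hσ => ⟨hσ.1.1, hσ.2⟩) (fun σ hσ => ⟨pair_le_GB hσ, hσ.2⟩), card_pair,
    show ({i : Fin 112 | i ≠ p0 ∧ i ∈ lineF}).ncard = 3 by
      rw [Set.ncard_eq_toFinset_card', Set.toFinset_ofPred]; exact flag_counts.1] at h
  omega

/-- A subgroup of order 729 of the flag stabiliser has the same orbits of three-power size. -/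
theorem orb_sylow {Q : Subgroup (Equiv.Perm (Fin 112))} (hQ : Q ≤ GB) (hc : Nat.card Q = 729)
    {y : Fin 112} {k : ℕ} (hk : (orbSet GB y).ncard = 3 ^ k) : orbSet Q y = orbSet GB y := by
  have hB := card_orbSet GB y
  have hq := card_orbSet Q y
  have hsub : orbSet Q y ⊆ orbSet GB y := fun z ⟨σ, hσ, e⟩ => ⟨σ, hQ hσ, e⟩
  refine Set.eq_of_subset_of_ncard_le hsub ?_ (Set.toFinite _)
  have hd := Subgroup.card_dvd_of_le (show Q ⊓ MulAction.stabilizer (Equiv.Perm (Fin 112)) y ≤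
    GB ⊓ MulAction.stabilizer (Equiv.Perm (Fin 112)) y from inf_le_inf_right _ hQ)
  rw [card_GB, hk] at hB
  rw [hc] at hq
  rw [hk]
  set b := Nat.card (GB ⊓ MulAction.stabilizer (Equiv.Perm (Fin 112)) y : Subgroup (Equiv.Perm (Fin 112)))
  set q := Nat.card (Q ⊓ MulAction.stabilizer (Equiv.Perm (Fin 112)) y : Subgroup (Equiv.Perm (Fin 112)))
  obtain ⟨j, -, hj⟩ := (Nat.dvd_prime_pow (by norm_num : Nat.Prime 3)).1
    (show q ∣ 3 ^ 6 from Dvd.intro_left _ hq)
  have h4 : Nat.Coprime (3 ^ j) 4 := Nat.Coprime.pow_left _ (by norm_num)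
  have h1 : 3 ^ j * 3 ^ k ∣ 729 * 4 := by
    rw [← hj, show 729 * 4 = b * 3 ^ k by rw [mul_comm b]; omega]
    exact Nat.mul_dvd_mul_right hd _
  have h5 : Nat.Coprime (3 ^ j * 3 ^ k) 4 := Nat.Coprime.mul_left h4 (Nat.Coprime.pow_left _ (by norm_num))
  have h2 : q * 3 ^ k ≤ 729 := by
    rw [hj]; exact Nat.le_of_dvd (by norm_num) (h5.dvd_of_dvd_mul_right h1)
  have hqpos : 0 < q := Nat.card_pos
  exact Nat.le_of_mul_le_mul_left (by rw [mul_comm q (orbSet Q y).ncard, hq]; exact h2) hqpos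

theorem five_check : valid 112 codeFive = true ∧ eqW 112 [codeFive] (wordCodes gensH wordFive) = true ∧
    wordFive.all (fun i => Nat.blt i gensH.length) = true ∧
    eqW 112 [codeFive, codeFive, codeFive, codeFive, codeFive] [] = true ∧
    (∀ i : Fin 112, pimg codeFive i = i → ∀ j : Fin 112, pimg codeFive j = j → ¬ AdjX i j) ∧
    Nat.beq (pimg codeFive 1) 1 = false := by
  decide +kernel

end CfsgLib.Recog.McLRank
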