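import Cfsg.Agent.Lib.KnownA.PermCert

/-!
Point sets of permutations given by codes, as masks.
-/

set_option autoImplicit false

namespace CfsgLib.Recog.McLRank

open CfsgLib.KnownA.PermCert

variable {n : ℕ}

/-- The set of a mask. -/
def mS (n m : ℕ) : Finset (Fin n) := Finset.univ.filter fun i => m.testBit i = true

theorem mem_mS {m : ℕ} {i : Fin n} : i ∈ mS n m ↔ m.testBit i = true := by simp [mS]

theorem exists_mask (S : Finset (Fin n)) : ∃ m, mS n m = S := by
  refine ⟨Nat.ofBits (fun i : Fin n => decide (i ∈ S)), ?_⟩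
  ext i
  rw [mem_mS, Nat.testBit_ofBits_lt _ _ i.2]
  simp

/-- The image of the first `k` bits of a mask under a code. -/
def imgM (c m : ℕ) : ℕ → ℕ
  | 0 => 0
  | k + 1 => bif m.testBit k then Nat.lor (Nat.shiftLeft 1 (pimg c k)) (imgM c m k) else imgM c m k

theorem testBit_imgM {c m j : ℕ} : ∀ {k : ℕ},
    (imgM c m k).testBit j = true ↔ ∃ i < k, m.testBit i = true ∧ pimg c i = j
  | 0 => by simp [imgM]
  | k + 1 => by
    rw [imgM]
    cases hk : m.testBit k with
    | false =>
      rw [cond_false, testBit_imgM (k := k)]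
      exact ⟨fun ⟨i, hi, h⟩ => ⟨i, by omega, h⟩, fun ⟨i, hi, h1, h2⟩ => ⟨i, by
        rcases Nat.lt_succ_iff_lt_or_eq.1 hi with hi | rfl
        · exact hi
        · rw [hk] at h1; exact absurd h1 Bool.false_ne_true, h1, h2⟩⟩
    | true =>
      rw [cond_true]
      show ((1 <<< pimg c k) ||| imgM c m k).testBit j = true ↔ _
      rw [Nat.testBit_or, Nat.one_shiftLeft, Nat.testBit_two_pow, Bool.or_eq_true, decide_eq_true_iff,
        testBit_imgM (k := k)]
      constructor
      · rintro (h | ⟨i, hi, h⟩)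
        · exact ⟨k, by omega, hk, h⟩
        · exact ⟨i, by omega, h⟩
      · rintro ⟨i, hi, h⟩
        rcases Nat.lt_succ_iff_lt_or_eq.1 hi with hi | rfl
        · exact Or.inr ⟨i, hi, h⟩
        · exact Or.inl h.2

theorem image_mS {c m : ℕ} (hc : valid n c = true) :
    (mS n m).image (permOf n c) = mS n (imgM c m n) := by
  ext j
  rw [Finset.mem_image, mem_mS, testBit_imgM]
  constructor
  · rintro ⟨i, hi, rfl⟩
    exact ⟨i, i.2, mem_mS.1 hi, (permOf_val hc i).symm⟩
  · rintro ⟨i, hi, h1, h2⟩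
    exact ⟨⟨i, hi⟩, mem_mS.2 h1, Fin.ext (by rw [permOf_val hc]; exact h2)⟩

/-- The points added to a mask by some codes, repeated. -/
def reach (n : ℕ) (gens : List ℕ) : ℕ → ℕ → ℕ
  | 0, m => m
  | k + 1, m => reach n gens k (gens.foldl (fun acc c => Nat.lor acc (imgM c m n)) m)

theorem foldl_lor {α : Type*} (f : α → ℕ) {j : ℕ} : ∀ (L : List α) (acc : ℕ),
    (L.foldl (fun a c => Nat.lor a (f c)) acc).testBit j = true →
    acc.testBit j = true ∨ ∃ c ∈ L, (f c).testBit j = true
  | [], acc, h => Or.inl h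
  | c :: L, acc, h => by
    rw [List.foldl_cons] at h
    rcases foldl_lor f L _ h with h | ⟨d, hd, h⟩
    · replace h : (acc ||| f c).testBit j = true := h
      rw [Nat.testBit_or, Bool.or_eq_true] at h
      rcases h with h | h
      · exact Or.inl h
      · exact Or.inr ⟨c, by simp, h⟩
    · exact Or.inr ⟨d, List.mem_cons_of_mem _ hd, h⟩

/-- Points reached from a mask are images of its points. -/
theorem mem_reach (K : Subgroup (Equiv.Perm (Fin n))) {gens : List ℕ}
    (hv : ∀ c ∈ gens, valid n c = true ∧ permOf n c ∈ K) :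
    ∀ {k m : ℕ} {j : Fin n}, (reach n gens k m).testBit j = true →
      ∃ σ ∈ K, ∃ i : Fin n, m.testBit i = true ∧ σ i = j
  | 0, m, j, h => ⟨1, one_mem _, j, h, rfl⟩
  | k + 1, m, j, h => by
    obtain ⟨σ, hσ, i, hi, e⟩ := mem_reach K hv (k := k) h
    rcases foldl_lor (fun c => imgM c m n) _ _ hi with h' | ⟨c, hc, h'⟩
    · exact ⟨σ, hσ, i, h', e⟩
    · obtain ⟨i', hi', hm, he⟩ := testBit_imgM.1 h'
      refine ⟨σ * permOf n c, mul_mem hσ (hv c hc).2, ⟨i', hi'⟩, hm, ?_⟩
      rw [Equiv.Perm.mul_apply, ← e]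
      congr 1
      exact Fin.ext (by rw [permOf_val (hv c hc).1]; exact he)

/-- The codes of a word in a list of generators. -/
def wordCodes (gens : List ℕ) (w : List ℕ) : List ℕ := w.map fun i => gens.getD i 0

theorem prodW_mem (K : Subgroup (Equiv.Perm (Fin n))) : ∀ {L : List ℕ},
    (∀ c ∈ L, permOf n c ∈ K) → prodW n L ∈ K
  | [], _ => one_mem _
  | c :: L, h => by
    show permOf n c * prodW n L ∈ K
    exact mul_mem (h c (by simp)) (prodW_mem K fun d hd => h d (List.mem_cons_of_mem _ hd))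

theorem permOf_eq_prodW {L : List ℕ} {c : ℕ} (hc : valid n c = true)
    (hL : ∀ d ∈ L, valid n d = true) (h : eqW n [c] L = true) : permOf n c = prodW n L := by
  have := (eqW_iff (L := [c]) (L' := L) (by simp [hc]) hL).1 h
  simpa [prodW] using this

end CfsgLib.Recog.McLRank
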