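import Cfsg.Agent.Lib.KnownA.U4ThreeSchur.Model
import Cfsg.Agent.Lib.Recog.McLRank.Masks
import Cfsg.Agent.Lib.Recog.McLRank.DataX

/-!
The quadrangle of 112 points under `PSU₄(3)`: invariance of adjacency and lines, suborbits, the
stabiliser of a flag and elements of orders five and seven.
-/

set_option autoImplicit false
set_option maxRecDepth 100000
set_option Elab.async false

namespace CfsgLib.Recog.McLRank

open CfsgLib.KnownA.PermCert CfsgLib.KnownA.U4ThreeSchur

/-- Adjacency of points. -/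
def AdjX (i j : Fin 112) : Prop := (adjX.getD i 0).testBit j = true

instance : DecidableRel AdjX := fun _ _ => inferInstanceAs (Decidable (_ = true))

/-- The lines as sets. -/
def Lines : Set (Finset (Fin 112)) := {L | ∃ m ∈ lineMasks, mS 112 m = L}

/-- A code maps neighbour masks to neighbour masks. -/
def adjOK (c : ℕ) : Bool :=
  (List.range 112).all fun i => Nat.beq (imgM c (adjX.getD i 0) 112) (adjX.getD (pimg c i) 0)

/-- A code maps lines to lines. -/
def linesOK (c : ℕ) : Bool :=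
  lineMasks.all fun m => lineMasks.any (Nat.beq (imgM c m 112))

theorem valid_gensG : ∀ c ∈ gensG, valid 112 c = true ∧ adjOK c = true ∧ linesOK c = true := by
  decide +kernel

theorem valid_gensH : ∀ c ∈ gensH, valid 112 c = true ∧ pimg c 0 = 0 := by decide +kernel

theorem genH_fix {σ : Equiv.Perm (Fin 112)} (h : σ ∈ genGroup 112 gensH) : σ p0 = p0 := by
  have : genGroup 112 gensH ≤ MulAction.stabilizer (Equiv.Perm (Fin 112)) p0 :=
    genGroup_le fun c hc => Fin.ext (by
      show ((permOf 112 c p0 : Fin 112) : ℕ) = _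
      rw [permOf_val (valid_gensH c hc).1]; exact (valid_gensH c hc).2)
  exact this h

theorem adj_gen {c : ℕ} (hc : valid 112 c = true) (h : adjOK c = true) (i j : Fin 112) :
    AdjX (permOf 112 c i) (permOf 112 c j) ↔ AdjX i j := by
  simp only [adjOK, List.all_eq_true, List.mem_range] at h
  have e := Nat.eq_of_beq_eq_true (h i i.2)
  show (adjX.getD (permOf 112 c i : Fin 112) 0).testBit (permOf 112 c j : Fin 112) = true ↔ _
  rw [permOf_val hc i, ← e, testBit_imgM]
  constructor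
  · rintro ⟨k, hk, hm, hj⟩
    have : (⟨k, hk⟩ : Fin 112) = j := (permOf 112 c).injective (Fin.ext (by
      rw [permOf_val hc]; exact hj))
    rw [← this]; exact hm
  · exact fun hm => ⟨j, j.2, hm, (permOf_val hc j).symm⟩

theorem adj_GP {σ : Equiv.Perm (Fin 112)} (h : σ ∈ GP) (i j : Fin 112) :
    AdjX (σ i) (σ j) ↔ AdjX i j := by
  induction h using Subgroup.closure_induction generalizing i j with
  | mem x hx =>
    obtain ⟨c, hc, rfl⟩ := hx
    exact adj_gen (valid_gensG c hc).1 (valid_gensG c hc).2.1 i j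
  | one => rfl
  | mul x y _ _ hx hy => rw [Equiv.Perm.mul_apply, Equiv.Perm.mul_apply, hx, hy]
  | inv x _ hx =>
    conv_rhs => rw [← Equiv.apply_symm_apply x i, ← Equiv.apply_symm_apply x j]
    rw [Equiv.Perm.inv_def, hx]

theorem lines_map_gen {c : ℕ} (hc : valid 112 c = true) (h : linesOK c = true)
    {L : Finset (Fin 112)} (hL : L ∈ Lines) : L.image (permOf 112 c) ∈ Lines := by
  obtain ⟨m, hm, rfl⟩ := hL
  simp only [linesOK, List.all_eq_true, List.any_eq_true] at h
  obtain ⟨m', hm', e⟩ := h m hm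
  exact ⟨m', hm', by rw [image_mS hc, Nat.eq_of_beq_eq_true e]⟩

theorem lines_GP {σ : Equiv.Perm (Fin 112)} (h : σ ∈ GP) {L : Finset (Fin 112)} (hL : L ∈ Lines) :
    L.image σ ∈ Lines := by
  have hGP : Submonoid.closure {σ : Equiv.Perm (Fin 112) | ∃ c ∈ gensG, σ = permOf 112 c} =
      GP.toSubmonoid := Subgroup.closure_toSubmonoid_of_finite.symm
  have h' : σ ∈ Submonoid.closure {σ : Equiv.Perm (Fin 112) | ∃ c ∈ gensG, σ = permOf 112 c} := by
    rw [hGP]; exact h
  clear h hGP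
  induction h' using Submonoid.closure_induction generalizing L with
  | mem x hx =>
    obtain ⟨c, hc, rfl⟩ := hx
    exact lines_map_gen (valid_gensG c hc).1 (valid_gensG c hc).2.2 hL
  | one => simpa using hL
  | mul x y _ _ hx hy => rw [Equiv.Perm.coe_mul, ← Finset.image_image]; exact hx (hy hL)

theorem gensH_mem : ∀ c ∈ gensH, valid 112 c = true ∧ permOf 112 c ∈ GP :=
  fun c hc => mem_needG (by simp [needG, hc])

theorem suborbit_check : reach 112 gensH 7 2 = adjX.getD 0 0 ∧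
    reach 112 gensH 8 16 = 2 ^ 112 - 1 - 1 - adjX.getD 0 0 ∧
    (∀ i : Fin 112, i = p0 ∨ AdjX p0 i ∨ (2 ^ 112 - 1 - 1 - adjX.getD 0 0).testBit i = true) := by
  decide +kernel

theorem first_check : ∀ i : Fin 112, first.any (fun c => Nat.beq (pimg c 0) i) = true := by
  decide +kernel

theorem GP_trans (i : Fin 112) : ∃ σ ∈ GP, σ p0 = i := by
  obtain ⟨c, hc, e⟩ := List.any_eq_true.1 (first_check i)
  have hm := mem_needG (c := c) (by simp [needG, hc])
  exact ⟨_, hm.2, Fin.ext (by rw [permOf_val hm.1]; exact Nat.eq_of_beq_eq_true e)⟩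

/-- The point stabiliser. -/
noncomputable abbrev GP0 : Subgroup (Equiv.Perm (Fin 112)) := GP ⊓ MulAction.stabilizer (Equiv.Perm (Fin 112)) p0

theorem genH_le_GP0 : genGroup 112 gensH ≤ GP0 :=
  le_inf genH_le fun _ h => genH_fix h

/-- Two points with the same relation to the base point are conjugate under its stabiliser. -/
theorem suborbit {i j : Fin 112} (hi : i ≠ p0) (hj : j ≠ p0) (h : AdjX p0 i ↔ AdjX p0 j) :
    ∃ σ ∈ GP0, σ i = j := by
  have key : ∀ (k s : ℕ) (b : Fin 112), (∀ x : Fin 112, (2 ^ s).testBit x = true → x = b) →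
      ∀ x : Fin 112, (reach 112 gensH k (2 ^ s)).testBit x = true → ∃ σ ∈ GP0, σ b = x := by
    intro k s b hb x hx
    obtain ⟨σ, hσ, i', hi', e⟩ := mem_reach (genGroup 112 gensH)
      (fun c hc => ⟨(valid_gensH c hc).1, mem_genGroup hc⟩) hx
    exact ⟨σ, genH_le_GP0 hσ, hb i' hi' ▸ e⟩
  obtain ⟨c1, c2, c3⟩ := suborbit_check
  have bit : ∀ (s : ℕ) (hs : s < 112) (x : Fin 112), (2 ^ s).testBit x = true → x = ⟨s, hs⟩ := by
    intro s hs x hx
    rw [Nat.testBit_two_pow, decide_eq_true_iff] at hx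
    exact Fin.ext hx.symm
  have hcase : ∀ x : Fin 112, x ≠ p0 → (AdjX p0 x → ∃ σ ∈ GP0, σ ⟨1, by norm_num⟩ = x) ∧
      (¬ AdjX p0 x → ∃ σ ∈ GP0, σ ⟨4, by norm_num⟩ = x) := by
    refine fun x hx => ⟨fun ha => key 7 1 _ (bit 1 _) x (c1.symm ▸ ha), fun ha => ?_⟩
    refine key 8 4 _ (bit 4 _) x (c2.symm ▸ ?_)
    rcases c3 x with e | e | e
    exacts [absurd e hx, absurd e ha, e]
  have join : ∀ b : Fin 112, (∃ σ ∈ GP0, σ b = i) → (∃ σ ∈ GP0, σ b = j) → ∃ σ ∈ GP0, σ i = j := by
    rintro b ⟨σ, hσ, rfl⟩ ⟨τ, hτ, rfl⟩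
    exact ⟨τ * σ⁻¹, mul_mem hτ (inv_mem hσ), by simp⟩
  by_cases ha : AdjX p0 i
  · exact join _ ((hcase i hi).1 ha) ((hcase j hj).1 (h.1 ha))
  · exact join _ ((hcase i hi).2 ha) ((hcase j hj).2 (fun e => ha (h.2 e)))

end CfsgLib.Recog.McLRank
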